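import Mathlib

/-!
Total complexes of bounded below double complexes preserve row-wise quasi-isomorphisms, in an
arbitrary abelian category.
-/

set_option autoImplicit false
set_option backward.isDefEq.respectTransparency false
set_option backward.isDefEq.respectTransparency.types false
set_option linter.unusedSectionVars false
set_option linter.style.haveILetI false

universe v u

open CategoryTheory CategoryTheory.Limits HomologicalComplex

namespace Groth.Agent.TotBoundLib

variable {A : Type u} [Category.{v} A] [Abelian A]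

/-- A quasi-isomorphism has an acyclic cone, up to refinements. -/
theorem cone_chase {X Y : CochainComplex A ℤ} (f : X ⟶ Y) [QuasiIso f] (i j k : ℤ) (hij : i + 1 = j)
    (hjk : j + 1 = k) {T : A} (w : T ⟶ X.X k) (z : T ⟶ Y.X j) (hw : w ≫ X.d k (k + 1) = 0)
    (hwz : w ≫ f.f k + z ≫ Y.d j k = 0) :
    ∃ (T' : A) (π : T' ⟶ T) (_ : Epi π) (x : T' ⟶ X.X j) (y : T' ⟶ Y.X i),
      x ≫ X.d j k + π ≫ w = 0 ∧ π ≫ z = x ≫ f.f j + y ≫ Y.d i j := by
  have h0 : X.liftCycles w (k + 1) (by simp) hw ≫ X.homologyπ k = 0 := by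
    have hz : (w ≫ f.f k) ≫ Y.d k (k + 1) = 0 := by
      rw [Category.assoc, f.comm, ← Category.assoc, hw, zero_comp]
    have e : X.liftCycles w (k + 1) (by simp) hw ≫ X.homologyπ k ≫ homologyMap f k =
        Y.liftCycles (w ≫ f.f k) (k + 1) (by simp) hz ≫ Y.homologyπ k := by
      rw [homologyπ_naturality, ← Category.assoc]
      congr 1
      rw [← cancel_mono (Y.iCycles k)]
      simp
    rw [← cancel_mono (homologyMap f k), Category.assoc, e, zero_comp,
      Y.liftCycles_comp_homologyπ_eq_zero_iff_up_to_refinements j k (k + 1) (by simp; omega) (by simp)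
        (w ≫ f.f k) hz]
    refine ⟨T, 𝟙 T, inferInstance, -z, ?_⟩
    rw [Category.id_comp, Preadditive.neg_comp]
    exact eq_neg_of_add_eq_zero_left hwz
  obtain ⟨T₁, π₁, hπ₁, x₁, hx₁⟩ :=
    (X.liftCycles_comp_homologyπ_eq_zero_iff_up_to_refinements j k (k + 1) (by simp; omega) (by simp) w hw).1 h0
  have hc : (π₁ ≫ z + x₁ ≫ f.f j) ≫ Y.d j k = 0 := by
    rw [Preadditive.add_comp, Category.assoc, Category.assoc, f.comm, ← Category.assoc x₁, ← hx₁,
      Category.assoc, ← Preadditive.comp_add, add_comm, hwz, comp_zero]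
  let c := Y.liftCycles (π₁ ≫ z + x₁ ≫ f.f j) k (by simp; omega) hc ≫ Y.homologyπ j
  obtain ⟨T₂, π₂, hπ₂, a, ha, hca⟩ := X.eq_liftCycles_homologyπ_up_to_refinements
    (c ≫ inv (homologyMap f j)) k (by simp; omega)
  let b : T₂ ⟶ Y.X j := π₂ ≫ (π₁ ≫ z + x₁ ≫ f.f j) - a ≫ f.f j
  have hb : b ≫ Y.d j k = 0 := by
    simp only [b, Preadditive.sub_comp, Category.assoc, hc, comp_zero, f.comm]
    rw [← Category.assoc, ha, zero_comp, sub_zero]
  have hb0 : Y.liftCycles b k (by simp; omega) hb ≫ Y.homologyπ j = 0 := by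
    have e1 : Y.liftCycles b k (by simp; omega) hb =
        π₂ ≫ Y.liftCycles (π₁ ≫ z + x₁ ≫ f.f j) k (by simp; omega) hc -
          X.liftCycles a k (by simp; omega) ha ≫ cyclesMap f j := by
      rw [← cancel_mono (Y.iCycles j)]
      simp [b]
    rw [e1, Preadditive.sub_comp, Category.assoc, Category.assoc, ← homologyπ_naturality,
      ← Category.assoc (X.liftCycles a k (by simp; omega) ha), ← hca]
    simp [c]
  obtain ⟨T₃, π₃, hπ₃, y, hy⟩ :=
    (Y.liftCycles_comp_homologyπ_eq_zero_iff_up_to_refinements i j k (by simp; omega) (by simp; omega) b hb).1 hb0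
  refine ⟨T₃, π₃ ≫ π₂ ≫ π₁, inferInstance, π₃ ≫ (a - π₂ ≫ x₁), y, ?_, ?_⟩
  · simp only [Category.assoc, Preadditive.sub_comp, ha, zero_sub, Preadditive.comp_neg]
    rw [hx₁, neg_add_cancel]
  · rw [← hy]
    simp only [b, Category.assoc, Preadditive.comp_sub, Preadditive.sub_comp, Preadditive.comp_add]
    abel

variable (K : HomologicalComplex₂ A (ComplexShape.up ℤ) (ComplexShape.up ℤ))
  [K.HasTotal (ComplexShape.up ℤ)]

/-- The row with second degree `q`. -/
noncomputable abbrev row (q : ℤ) : CochainComplex A ℤ :=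
  ((HomologicalComplex.eval A (ComplexShape.up ℤ) q).mapHomologicalComplex (ComplexShape.up ℤ)).obj K

/-- The inclusion of a component. -/
noncomputable abbrev inc (n p q : ℤ) (h : p + q = n) : (K.X p).X q ⟶ (K.total (ComplexShape.up ℤ)).X n :=
  K.ιTotal (ComplexShape.up ℤ) p q n h

/-- The projection to a component. -/
noncomputable def prj (n p q : ℤ) : (K.total (ComplexShape.up ℤ)).X n ⟶ (K.X p).X q :=
  K.totalDesc fun p' q' _ => if h : p' = p ∧ q' = q then eqToHom (by rw [h.1, h.2]) else 0

theorem inc_prj (n p q : ℤ) (h : p + q = n) : inc K n p q h ≫ prj K n p q = 𝟙 _ := by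
  rw [prj]
  erw [HomologicalComplex₂.ι_totalDesc]
  simp

theorem inc_prj_ne (n p q p' q' : ℤ) (h : p' + q' = n) (hne : ¬ (p' = p ∧ q' = q)) :
    inc K n p' q' h ≫ prj K n p q = 0 := by
  rw [prj]
  erw [HomologicalComplex₂.ι_totalDesc]
  rw [dif_neg hne]

theorem d_prj (n n' p p' q q' : ℤ) (hn : n + 1 = n') (hp : p + 1 = p') (hq : q' + 1 = q) :
    (K.total (ComplexShape.up ℤ)).d n n' ≫ prj K n' p' q =
      prj K n p q ≫ (K.d p p').f q + p'.negOnePow • (prj K n p' q' ≫ (K.X p').d q' q) := by
  refine HomologicalComplex₂.total.hom_ext _ fun r s hrs => ?_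
  have hrs' : r + s = n := hrs
  rw [HomologicalComplex₂.total_d, Preadditive.add_comp, Preadditive.comp_add,
    HomologicalComplex₂.ι_D₁_assoc, HomologicalComplex₂.ι_D₂_assoc,
    HomologicalComplex₂.d₁_eq K _ (show (ComplexShape.up ℤ).Rel r (r + 1) from rfl) s n'
      (show r + 1 + s = n' by omega),
    HomologicalComplex₂.d₂_eq K _ r (show (ComplexShape.up ℤ).Rel s (s + 1) from rfl) n'
      (show r + (s + 1) = n' by omega),
    Linear.units_smul_comp, Linear.units_smul_comp, Category.assoc, Category.assoc,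
    Preadditive.comp_add, Linear.comp_units_smul]
  congr 1
  · rw [show ComplexShape.ε₁ (ComplexShape.up ℤ) (ComplexShape.up ℤ) (ComplexShape.up ℤ) (r, s) = 1
      from rfl, one_smul]
    by_cases h : r = p ∧ s = q
    · obtain ⟨rfl, rfl⟩ := h
      obtain rfl : p' = r + 1 := hp.symm
      rw [reassoc_of% (inc_prj K n r s hrs'), inc_prj, Category.comp_id]
    · rw [inc_prj_ne K n' p' q (r + 1) s _ (fun e => h ⟨by omega, e.2⟩), comp_zero,
        reassoc_of% (inc_prj_ne K n p q r s hrs' h), zero_comp]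
  · by_cases h : r = p' ∧ s = q'
    · obtain ⟨rfl, rfl⟩ := h
      obtain rfl : q = s + 1 := hq.symm
      rw [reassoc_of% (inc_prj K n r s hrs'), inc_prj, Category.comp_id]
      rfl
    · rw [inc_prj_ne K n' p' q r (s + 1) _ (fun e => h ⟨e.1, by omega⟩), comp_zero,
        reassoc_of% (inc_prj_ne K n p' q' r s hrs' h), zero_comp, smul_zero, smul_zero]

/-- Components below `m` vanish. -/
def Supp {T : A} {n : ℤ} (m : ℤ) (w : T ⟶ (K.total (ComplexShape.up ℤ)).X n) : Prop :=
  ∀ p q : ℤ, q < m → w ≫ prj K n p q = 0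

theorem supp_inc_d {T : A} (n n' p q : ℤ) (h : p + q = n) (hn : n + 1 = n') (x : T ⟶ (K.X p).X q) :
    Supp K q (x ≫ inc K n p q h ≫ (K.total (ComplexShape.up ℤ)).d n n') := by
  intro r s hs
  rw [Category.assoc, Category.assoc, d_prj K n n' (r - 1) r s (s - 1) hn (by omega) (by omega),
    Preadditive.comp_add, Linear.comp_units_smul,
    reassoc_of% (inc_prj_ne K n (r - 1) s p q h (fun e => by omega)),
    reassoc_of% (inc_prj_ne K n r (s - 1) p q h (fun e => by omega))]
  simp

theorem inc_d_prj {T : A} (n n' p p' q : ℤ) (h : p + q = n) (hn : n + 1 = n') (hp : p + 1 = p')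
    (x : T ⟶ (K.X p).X q) :
    (x ≫ inc K n p q h ≫ (K.total (ComplexShape.up ℤ)).d n n') ≫ prj K n' p' q = x ≫ (K.d p p').f q := by
  rw [Category.assoc, Category.assoc, d_prj K n n' p p' q (q - 1) hn hp (by omega),
    Preadditive.comp_add, Linear.comp_units_smul, reassoc_of% (inc_prj K n p q h),
    reassoc_of% (inc_prj_ne K n p' (q - 1) p q h (fun e => by omega))]
  simp

theorem d_prj_of_supp {T : A} {n : ℤ} (n' p p' m : ℤ) (hn : n + 1 = n') (hp : p + 1 = p')
    (w : T ⟶ (K.total (ComplexShape.up ℤ)).X n) (hw : Supp K m w) :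
    w ≫ (K.total (ComplexShape.up ℤ)).d n n' ≫ prj K n' p' m = (w ≫ prj K n p m) ≫ (K.d p p').f m := by
  rw [d_prj K n n' p p' m (m - 1) hn hp (by omega), Preadditive.comp_add, Linear.comp_units_smul,
    ← Category.assoc w (prj K n p' (m - 1)), hw p' (m - 1) (by omega), zero_comp, smul_zero, add_zero,
    Category.assoc]

section Bound

variable (a b : ℤ) (hK : ∀ p q : ℤ, p < a ∨ q < b → IsZero ((K.X p).X q))

include hK

theorem id_eq_sum (n : ℤ) :
    𝟙 ((K.total (ComplexShape.up ℤ)).X n) =
      ∑ q ∈ Finset.Icc b (n - a), prj K n (n - q) q ≫ inc K n (n - q) q (by omega) := by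
  refine HomologicalComplex₂.total.hom_ext _ fun r s hrs => ?_
  have hrs' : r + s = n := hrs
  by_cases hs : s ∈ Finset.Icc b (n - a)
  · rw [Preadditive.comp_sum, Category.comp_id, Finset.sum_eq_single s]
    · obtain rfl : r = n - s := by omega
      exact (Category.id_comp _).symm.trans ((congrArg (· ≫ inc K n (n - s) s _)
        (inc_prj K n (n - s) s hrs')).symm.trans (Category.assoc _ _ _))
    · intro q _ hq
      exact (Category.assoc _ _ _).symm.trans ((congrArg (· ≫ inc K n (n - q) q _)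
        (inc_prj_ne K n (n - q) q r s hrs' (fun e => hq e.2.symm))).trans zero_comp)
    · exact fun h => absurd hs h
  · refine (hK r s ?_).eq_of_src _ _
    rw [Finset.mem_Icc] at hs
    omega

theorem eq_zero_of_supp {T : A} {n : ℤ} (w : T ⟶ (K.total (ComplexShape.up ℤ)).X n) (m : ℤ)
    (hw : Supp K m w) (hm : n - a < m) : w = 0 := by
  rw [← Category.comp_id w, id_eq_sum K a b hK n, Preadditive.comp_sum]
  refine Finset.sum_eq_zero fun q hq => ?_
  rw [Finset.mem_Icc] at hq
  rw [← Category.assoc, hw (n - q) q (by omega), zero_comp]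

theorem supp_bottom {T : A} {n : ℤ} (w : T ⟶ (K.total (ComplexShape.up ℤ)).X n) : Supp K b w :=
  fun p q hq => (hK p q (Or.inr hq)).eq_of_tgt _ _

end Bound

variable {K} {L : HomologicalComplex₂ A (ComplexShape.up ℤ) (ComplexShape.up ℤ)}
  [L.HasTotal (ComplexShape.up ℤ)] (φ : K ⟶ L)

theorem map_prj (n p q : ℤ) :
    (HomologicalComplex₂.total.map φ (ComplexShape.up ℤ)).f n ≫ prj L n p q = prj K n p q ≫ (φ.f p).f q := by
  refine HomologicalComplex₂.total.hom_ext _ fun r s hrs => ?_
  have hrs' : r + s = n := hrs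
  rw [HomologicalComplex₂.ιTotal_map_assoc]
  by_cases h : r = p ∧ s = q
  · obtain ⟨rfl, rfl⟩ := h
    rw [inc_prj, Category.comp_id, reassoc_of% (inc_prj K n r s hrs')]
  · rw [inc_prj_ne L n p q r s hrs' h, comp_zero, reassoc_of% (inc_prj_ne K n p q r s hrs' h), zero_comp]

variable (a b : ℤ) (hK : ∀ p q : ℤ, p < a ∨ q < b → IsZero ((K.X p).X q))
  (hL : ∀ p q : ℤ, p < a ∨ q < b → IsZero ((L.X p).X q))
  (hrow : ∀ q : ℤ, QuasiIso
    (((HomologicalComplex.eval A (ComplexShape.up ℤ) q).mapHomologicalComplex (ComplexShape.up ℤ)).map φ))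

include hK hL hrow

/-- The cone of the map of total complexes is acyclic, up to refinements. -/
theorem tot_chase : ∀ (c : ℕ) (m i j k : ℤ), i + 1 = j → j + 1 = k → k - a < m + c →
    ∀ {T : A} (w : T ⟶ (K.total (ComplexShape.up ℤ)).X k) (z : T ⟶ (L.total (ComplexShape.up ℤ)).X j),
      Supp K m w → Supp L m z → w ≫ (K.total (ComplexShape.up ℤ)).d k (k + 1) = 0 →
      w ≫ (HomologicalComplex₂.total.map φ (ComplexShape.up ℤ)).f k +
        z ≫ (L.total (ComplexShape.up ℤ)).d j k = 0 →
      ∃ (T' : A) (π : T' ⟶ T) (_ : Epi π) (x : T' ⟶ (K.total (ComplexShape.up ℤ)).X j)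
        (y : T' ⟶ (L.total (ComplexShape.up ℤ)).X i),
        x ≫ (K.total (ComplexShape.up ℤ)).d j k + π ≫ w = 0 ∧
        π ≫ z = x ≫ (HomologicalComplex₂.total.map φ (ComplexShape.up ℤ)).f j +
          y ≫ (L.total (ComplexShape.up ℤ)).d i j
  | 0, m, i, j, k, hij, hjk, hm, T, w, z, hw, hz, _, _ => by
    refine ⟨T, 𝟙 T, inferInstance, 0, 0, ?_, ?_⟩
    · rw [eq_zero_of_supp K a b hK w m hw (by omega)]
      simp
    · rw [eq_zero_of_supp L a b hL z m hz (by omega)]
      simp
  | c + 1, m, i, j, k, hij, hjk, hm, T, w, z, hw, hz, hdw, hwz => by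
    haveI := hrow m
    have h1 : (w ≫ prj K k (k - m) m) ≫ (row K m).d (k - m) (k - m + 1) = 0 := by
      show (w ≫ prj K k (k - m) m) ≫ (K.d (k - m) (k - m + 1)).f m = 0
      rw [← d_prj_of_supp K (k + 1) (k - m) (k - m + 1) m rfl rfl w hw, ← Category.assoc, hdw, zero_comp]
    have h2 : (w ≫ prj K k (k - m) m) ≫ (φ.f (k - m)).f m +
        (z ≫ prj L j (j - m) m) ≫ (L.d (j - m) (k - m)).f m = 0 := by
      rw [← d_prj_of_supp L k (j - m) (k - m) m hjk (by omega) z hz, Category.assoc, ← map_prj φ,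
        ← Category.assoc, ← Category.assoc, ← Preadditive.add_comp, hwz, zero_comp]
    obtain ⟨T₁, π₁, hπ₁, x₁, y₁, e₁, e₂⟩ := cone_chase
      (((HomologicalComplex.eval A (ComplexShape.up ℤ) m).mapHomologicalComplex (ComplexShape.up ℤ)).map φ)
      (i - m) (j - m) (k - m) (by omega) (by omega)
      (T := T) (w ≫ prj K k (k - m) m) (z ≫ prj L j (j - m) m) h1 h2
    change x₁ ≫ (K.d (j - m) (k - m)).f m + π₁ ≫ w ≫ prj K k (k - m) m = 0 at e₁
    change π₁ ≫ z ≫ prj L j (j - m) m = x₁ ≫ (φ.f (j - m)).f m + y₁ ≫ (L.d (i - m) (j - m)).f m at e₂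
    let X₁ : T₁ ⟶ (K.total (ComplexShape.up ℤ)).X j := x₁ ≫ inc K j (j - m) m (by omega)
    let Y₁ : T₁ ⟶ (L.total (ComplexShape.up ℤ)).X i := y₁ ≫ inc L i (i - m) m (by omega)
    let w' := π₁ ≫ w + X₁ ≫ (K.total (ComplexShape.up ℤ)).d j k
    let z' := π₁ ≫ z - X₁ ≫ (HomologicalComplex₂.total.map φ (ComplexShape.up ℤ)).f j -
      Y₁ ≫ (L.total (ComplexShape.up ℤ)).d i j
    have hw' : Supp K (m + 1) w' := by
      intro p q hq
      simp only [w', X₁, Preadditive.add_comp, Category.assoc]
      rcases lt_or_eq_of_le (Int.le_of_lt_add_one hq) with hq | rfl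
      · have := supp_inc_d K j k (j - m) m (by omega) hjk x₁ p q hq
        simp only [Category.assoc] at this
        rw [hw p q hq, comp_zero, this, add_zero]
      · by_cases hp : p = k - q
        · subst hp
          have := inc_d_prj K j k (j - q) (k - q) q (by omega) hjk (by omega) x₁
          simp only [Category.assoc] at this
          rw [this, add_comm]
          exact e₁
        · have h0 : prj K k p q = 0 := by
            refine HomologicalComplex₂.total.hom_ext _ fun r s hrs => ?_
            have hrs' : r + s = k := hrs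
            rw [comp_zero]
            exact inc_prj_ne K k p q r s hrs' (fun e => hp (by omega))
          simp [h0]
    have hz' : Supp L (m + 1) z' := by
      intro p q hq
      simp only [z', X₁, Y₁, Preadditive.sub_comp, Category.assoc, map_prj]
      rcases lt_or_eq_of_le (Int.le_of_lt_add_one hq) with hq | rfl
      · have := supp_inc_d L i j (i - m) m (by omega) hij y₁ p q hq
        simp only [Category.assoc] at this
        rw [hz p q hq, comp_zero, this, reassoc_of% (inc_prj_ne K j p q (j - m) m (by omega) (fun e => by omega))]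
        simp
      · by_cases hp : p = j - q
        · subst hp
          have := inc_d_prj L i j (i - q) (j - q) q (by omega) hij (by omega) y₁
          simp only [Category.assoc] at this
          rw [this, reassoc_of% (inc_prj K j (j - q) q (by omega)), e₂]
          abel
        · have h0 : prj L j p q = 0 := by
            refine HomologicalComplex₂.total.hom_ext _ fun r s hrs => ?_
            have hrs' : r + s = j := hrs
            rw [comp_zero]
            exact inc_prj_ne L j p q r s hrs' (fun e => hp (by omega))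
          rw [reassoc_of% (inc_prj_ne K j p q (j - q) q (by omega) (fun e => hp e.1.symm))]
          simp [h0]
    have hdw' : w' ≫ (K.total (ComplexShape.up ℤ)).d k (k + 1) = 0 := by
      simp [w', hdw]
    have hwz' : w' ≫ (HomologicalComplex₂.total.map φ (ComplexShape.up ℤ)).f k +
        z' ≫ (L.total (ComplexShape.up ℤ)).d j k = 0 := by
      simp only [w', z', Preadditive.add_comp, Preadditive.sub_comp, Category.assoc,
        HomologicalComplex.d_comp_d, comp_zero, sub_zero,
        ← (HomologicalComplex₂.total.map φ (ComplexShape.up ℤ)).comm]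
      rw [add_add_sub_cancel, ← Preadditive.comp_add, hwz, comp_zero]
    obtain ⟨T₂, π₂, hπ₂, x₂, y₂, e₃, e₄⟩ :=
      tot_chase c (m + 1) i j k hij hjk (by omega) w' z' hw' hz' hdw' hwz'
    refine ⟨T₂, π₂ ≫ π₁, inferInstance, x₂ + π₂ ≫ X₁, y₂ + π₂ ≫ Y₁, ?_, ?_⟩
    · rw [← e₃]
      simp only [w', Preadditive.comp_add, Preadditive.add_comp, Category.assoc]
      abel
    · simp only [z', Preadditive.comp_sub] at e₄
      simp only [Preadditive.add_comp, Category.assoc]
      rw [sub_eq_iff_eq_add, sub_eq_iff_eq_add] at e₄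
      rw [e₄]
      abel

/-- The statement. -/
theorem quasiIso_total_map : QuasiIso (HomologicalComplex₂.total.map φ (ComplexShape.up ℤ)) := by
  let F := HomologicalComplex₂.total.map φ (ComplexShape.up ℤ)
  refine ⟨fun n => ?_⟩
  rw [quasiIsoAt_iff_isIso_homologyMap]
  haveI : Mono (homologyMap F n) := by
    refine Preadditive.mono_of_cancel_zero _ fun {T} γ hγ => ?_
    obtain ⟨T₁, π, hπ, w, hw, hγw⟩ := HomologicalComplex.eq_liftCycles_homologyπ_up_to_refinements _ γ (n + 1) (by simp)
    have hFw : (w ≫ F.f n) ≫ (L.total (ComplexShape.up ℤ)).d n (n + 1) = 0 := by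
      rw [Category.assoc, F.comm, ← Category.assoc, hw, zero_comp]
    have h0 : HomologicalComplex.liftCycles _ (w ≫ F.f n) (n + 1) (by simp) hFw ≫
        (L.total (ComplexShape.up ℤ)).homologyπ n = 0 := by
      refine Eq.trans ?_ ((congrArg (π ≫ ·) hγ).trans comp_zero)
      rw [← Category.assoc π, hγw, Category.assoc, homologyπ_naturality, ← Category.assoc]
      congr 1
      rw [← cancel_mono ((L.total (ComplexShape.up ℤ)).iCycles n)]
      simp
    obtain ⟨T₂, π₂, hπ₂, y, hy⟩ := ((L.total (ComplexShape.up ℤ)).liftCycles_comp_homologyπ_eq_zero_iff_up_to_refinements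
      (n - 1) n (n + 1) (by simp) (by simp) (w ≫ F.f n) hFw).1 h0
    obtain ⟨T₃, π₃, hπ₃, x, y', e1, -⟩ := tot_chase φ a b hK hL hrow (n - a - b + 1).toNat b
      (n - 1 - 1) (n - 1) n (by omega) (by omega) (by omega) (π₂ ≫ w) (-y) (supp_bottom K a b hK _)
      (supp_bottom L a b hL _) (by rw [Category.assoc, hw, comp_zero])
      (by rw [Preadditive.neg_comp, ← hy, Category.assoc]; exact add_neg_cancel _)
    rw [← cancel_epi π, comp_zero, hγw,
      HomologicalComplex.liftCycles_comp_homologyπ_eq_zero_iff_up_to_refinements _ (n - 1) n (n + 1)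
        (by simp) (by simp) w hw]
    exact ⟨T₃, π₃ ≫ π₂, inferInstance, -x, by
      rw [Preadditive.neg_comp, Category.assoc]
      exact eq_neg_of_add_eq_zero_right e1⟩
  haveI : Epi (homologyMap F n) := by
    rw [epi_iff_surjective_up_to_refinements]
    intro T γ
    obtain ⟨T₁, π, hπ, z, hz, hγz⟩ :=
      HomologicalComplex.eq_liftCycles_homologyπ_up_to_refinements _ γ (n + 1) (by simp)
    obtain ⟨T₂, π₂, hπ₂, x, y, e1, e2⟩ := tot_chase φ a b hK hL hrow (n + 1 - a - b + 1).toNat b
      (n - 1) n (n + 1) (by omega) rfl (by omega) 0 z (supp_bottom K a b hK _) (supp_bottom L a b hL _)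
      zero_comp (by rw [zero_comp, zero_add, hz])
    rw [comp_zero, add_zero] at e1
    refine ⟨T₂, π₂ ≫ π, inferInstance,
      HomologicalComplex.liftCycles _ x (n + 1) (by simp) e1 ≫ (K.total (ComplexShape.up ℤ)).homologyπ n, ?_⟩
    rw [Category.assoc, hγz, Category.assoc, homologyπ_naturality, ← Category.assoc, ← Category.assoc]
    have hb : (π₂ ≫ z - x ≫ F.f n) ≫ (L.total (ComplexShape.up ℤ)).d n (n + 1) = 0 := by
      rw [e2, add_sub_cancel_left, Category.assoc, HomologicalComplex.d_comp_d, comp_zero]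
    have h0 := ((L.total (ComplexShape.up ℤ)).liftCycles_comp_homologyπ_eq_zero_iff_up_to_refinements
      (n - 1) n (n + 1) (by simp) (by simp) (π₂ ≫ z - x ≫ F.f n) hb).2
      ⟨T₂, 𝟙 _, inferInstance, y, by rw [Category.id_comp, e2, add_sub_cancel_left]⟩
    rw [← sub_eq_zero, ← Preadditive.sub_comp]
    refine Eq.trans ?_ h0
    congr 1
    rw [← cancel_mono ((L.total (ComplexShape.up ℤ)).iCycles n)]
    simp [F]
  exact isIso_of_mono_of_epi _

end Groth.Agent.TotBoundLib
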